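import Groth.Agent.Lib.AlgSpace.GroupoidCalc
import Groth.Agent.Lib.AlgSpace.LocP
import Groth.Agent.Lib.AlgSpace.Space
import Groth.Agent.Lib.AlgSpace.Sub
import Groth.Agent.Lib.AlgSpDecent.Basic

/-!
# Restrictions of groupoids in algebraic spaces
-/

universe u

set_option backward.isDefEq.respectTransparency false

open CategoryTheory CategoryTheory.Limits AlgebraicGeometry

namespace Groth.Agent.GpdRestrict14

open AlgSp Groth.Agent.AlgSpace Groth.Agent.AlgSpDecent

variable {S : Scheme.{u}} {B : Sp S} {G G' : GroupoidSp B} {φ : GroupoidSp.Hom G' G}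

/-- The source map of a restriction is a base change. -/
theorem restrict_sq_s (hφ : φ.IsRestriction) :
    IsPullback (pullback.lift G'.t φ.fR φ.comm_t.symm) G'.s (pullback.snd φ.fU G.t ≫ G.s) φ.fU := by
  refine IsPullback.of_isLimit' ⟨by rw [pullback.lift_snd_assoc, φ.comm_s]⟩
    (PullbackCone.IsLimit.mk _ (fun c => hφ.lift (c.fst ≫ pullback.snd _ _)
      (pullback.lift (c.fst ≫ pullback.fst _ _) c.snd (?_)) (?_))
      (fun c => ?_) (fun c => ?_) (fun c m h₁ h₂ => ?_))
  · rw [Category.assoc, ← φ.fU_over, pullback.condition_assoc, G.t_over, ← G.s_over,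
      ← reassoc_of% c.condition]
  · refine pullback.hom_ext ?_ ?_
    · simp only [GroupoidSp.Hom.prodMap, Category.assoc, GroupoidSp.j_fst, pullback.lift_fst]
      rw [pullback.lift_fst_assoc, Category.assoc, pullback.condition]
    · simp only [GroupoidSp.Hom.prodMap, Category.assoc, GroupoidSp.j_snd, pullback.lift_snd]
      rw [pullback.lift_snd_assoc]
      exact c.condition
  · refine pullback.hom_ext ?_ ?_
    · refine (Category.assoc _ _ _).trans ((congrArg (_ ≫ ·) (pullback.lift_fst _ _ _)).trans ?_)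
      refine ((congrArg (_ ≫ ·) G'.j_fst).symm.trans ((Category.assoc _ _ _).symm.trans ?_))
      rw [IsPullback.lift_snd, pullback.lift_fst]
    · exact (Category.assoc _ _ _).trans ((congrArg (_ ≫ ·) (pullback.lift_snd _ _ _)).trans
        (IsPullback.lift_fst _ _ _ _))
  · refine ((congrArg (_ ≫ ·) G'.j_snd).symm.trans ((Category.assoc _ _ _).symm.trans ?_))
    rw [IsPullback.lift_snd, pullback.lift_snd]
  · refine hφ.hom_ext ?_ ?_
    · rw [IsPullback.lift_fst, ← h₁, Category.assoc, pullback.lift_snd]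
    · rw [IsPullback.lift_snd]
      refine pullback.hom_ext ?_ ?_
      · rw [pullback.lift_fst, Category.assoc, GroupoidSp.j_fst, ← h₁, Category.assoc, pullback.lift_fst]
      · rw [pullback.lift_snd, Category.assoc, GroupoidSp.j_snd]
        exact h₂

/-- The target map of a restriction is a base change. -/
theorem restrict_sq_t (hφ : φ.IsRestriction) :
    IsPullback (pullback.lift G'.s φ.fR φ.comm_s.symm) G'.t (pullback.snd φ.fU G.s ≫ G.t) φ.fU := by
  refine IsPullback.of_isLimit' ⟨by rw [pullback.lift_snd_assoc, φ.comm_t]⟩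
    (PullbackCone.IsLimit.mk _ (fun c => hφ.lift (c.fst ≫ pullback.snd _ _)
      (pullback.lift c.snd (c.fst ≫ pullback.fst _ _) (?_)) (?_))
      (fun c => ?_) (fun c => ?_) (fun c m h₁ h₂ => ?_))
  · rw [Category.assoc, ← φ.fU_over, pullback.condition_assoc, G.s_over, ← G.t_over,
      ← reassoc_of% c.condition]
  · refine pullback.hom_ext ?_ ?_
    · simp only [GroupoidSp.Hom.prodMap, Category.assoc, GroupoidSp.j_fst, pullback.lift_fst]
      rw [pullback.lift_fst_assoc]
      exact c.condition
    · simp only [GroupoidSp.Hom.prodMap, Category.assoc, GroupoidSp.j_snd, pullback.lift_snd]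
      rw [pullback.lift_snd_assoc, Category.assoc, pullback.condition]
  · refine pullback.hom_ext ?_ ?_
    · refine (Category.assoc _ _ _).trans ((congrArg (_ ≫ ·) (pullback.lift_fst _ _ _)).trans ?_)
      refine ((congrArg (_ ≫ ·) G'.j_snd).symm.trans ((Category.assoc _ _ _).symm.trans ?_))
      rw [IsPullback.lift_snd, pullback.lift_snd]
    · exact (Category.assoc _ _ _).trans ((congrArg (_ ≫ ·) (pullback.lift_snd _ _ _)).trans
        (IsPullback.lift_fst _ _ _ _))
  · refine ((congrArg (_ ≫ ·) G'.j_fst).symm.trans ((Category.assoc _ _ _).symm.trans ?_))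
    rw [IsPullback.lift_snd, pullback.lift_fst]
  · refine hφ.hom_ext ?_ ?_
    · rw [IsPullback.lift_fst, ← h₁, Category.assoc, pullback.lift_snd]
    · rw [IsPullback.lift_snd]
      refine pullback.hom_ext ?_ ?_
      · rw [pullback.lift_fst, Category.assoc, GroupoidSp.j_fst]
        exact h₂
      · rw [pullback.lift_snd, Category.assoc, GroupoidSp.j_snd, ← h₁, Category.assoc, pullback.lift_fst]

/-- A property local in the étale topology passes to restrictions. -/
theorem locP_restrict {P : MorphismProperty Scheme.{u}} [EtaleLocal P]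
    (hU : IsAlgSpace G.U) (hR : IsAlgSpace G.R) (hU' : IsAlgSpace G'.U) (hφ : φ.IsRestriction)
    (hs : LocP P G.s) (ht : LocP P G.t) (hg : LocP P φ.fU) : LocP P G'.s ∧ LocP P G'.t := by
  have sqt := IsPullback.of_hasPullback φ.fU G.t
  have sqs := IsPullback.of_hasPullback φ.fU G.s
  have hA := isAlgSpace_pullback hU hU' hR sqt
  have hA' := isAlgSpace_pullback hU hU' hR sqs
  exact ⟨locP_of_isPullback hA hU hU' (restrict_sq_s hφ)
      (locP_comp hA hR hU (locP_of_isPullback hU' hU hR sqt hg) hs),
    locP_of_isPullback hA' hU hU' (restrict_sq_t hφ)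
      (locP_comp hA' hR hU (locP_of_isPullback hU' hU hR sqs hg) ht)⟩

/-- The saturation of a set of objects. -/
theorem saturation_invariant_points (G : GroupoidSp B) (W : Set (Points G.U)) (y : Points G.R)
    (hy : Points.map G.t y ∈ Points.map G.s '' (Points.map G.t ⁻¹' W)) :
    Points.map G.s y ∈ Points.map G.s '' (Points.map G.t ⁻¹' W) := by
  obtain ⟨q, hq, hqy⟩ := hy
  obtain ⟨z, hz₁, hz₂⟩ := exists_point_lift (IsPullback.of_hasPullback G.s G.t) q y hqy
  refine ⟨Points.map G.c z, ?_, ?_⟩
  · show Points.map G.t (Points.map G.c z) ∈ W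
    rw [← Points.map_comp, c_eq, cmp_t, Points.map_comp, hz₁]
    exact hq
  · rw [← Points.map_comp, c_eq, cmp_s, Points.map_comp, hz₂]

theorem isInvariant_saturation (G : GroupoidSp B) (W : Set (Points G.U)) {W' : Sp S} (w' : W' ⟶ G.U)
    (hw' : RepWith @IsOpenImmersion w')
    (himg : Set.range (Points.map w') = Points.map G.s '' (Points.map G.t ⁻¹' W)) :
    G.IsInvariant w' := by
  intro T r
  have key : ∀ r : (yon S).obj T ⟶ G.R, (∃ a : (yon S).obj T ⟶ W', a ≫ w' = r ≫ G.t) →
      ∃ a : (yon S).obj T ⟶ W', a ≫ w' = r ≫ G.s := by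
    rintro r ⟨a, ha⟩
    refine exists_factor_of_range hw' _ ?_
    rintro _ ⟨x, rfl⟩
    rw [himg, Points.map_comp]
    refine saturation_invariant_points G W _ ?_
    rw [← himg, ← Points.map_comp, ← ha, Points.map_comp]
    exact ⟨_, rfl⟩
  refine ⟨key r, fun h => ?_⟩
  obtain ⟨a, ha⟩ := key (r ≫ G.i) (by simpa only [Category.assoc, G.i_t] using h)
  exact ⟨a, by rw [ha, Category.assoc, G.i_s]⟩

end Groth.Agent.GpdRestrict14
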