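import Groth.Agent.Lib.GpdRestrict14.Basic
import Groth.Agent.Lib.AlgSpace.OpenFlat
import Groth.Agent.Lib.AlgSpace.Affine
import Groth.Agent.Lib.AlgSpace.PointsBC
import Mathlib.CategoryTheory.Monoidal.Cartesian.Grp

/-!
# Groupoids and groups in algebraic spaces over a field
-/

universe u

set_option backward.isDefEq.respectTransparency false

open CategoryTheory CategoryTheory.Limits AlgebraicGeometry MonoidalCategory CartesianMonoidalCategory MonObj

namespace Groth.Agent.GpdRestrict14

open AlgSp Groth.Agent.AlgSpace Groth.Agent.AlgSpDecent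

variable {S : Scheme.{u}}

/-- Morphisms to a point given by a field are flat and universally open. -/
theorem flat_univOpen_to_field {X U : Sp S} (hX : IsAlgSpace X) (hU : IsAlgSpace U) {k : Type u} [Field k]
    (σ : Spec (CommRingCat.of k) ⟶ S) (e : U ≅ (yon S).obj (Over.mk σ)) (f : X ⟶ U) :
    LocP @Flat f ∧ IsUnivOpenMor f := by
  have sq : IsPullback (𝟙 X) f (f ≫ e.hom) e.hom :=
    IsPullback.of_horiz_isIso ⟨Category.id_comp _⟩
  refine ⟨locP_of_isPullback hX (IsAlgSpace.yon_obj _) hU sq ?_,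
    univSp_of_isPullback sq (isUnivOpenMor_to_field hX σ _)⟩
  obtain ⟨V, a, hae, has⟩ := hX.atlas
  obtain ⟨h, hh⟩ := (yon S).map_surjective (a ≫ f ≫ e.hom)
  exact locP_of_one_chart a (𝟙 _) h hae has (repWith_id @Etale _)
    (by rw [Category.comp_id, hh]) (Groth.Agent.AlgSpace.flat_of_field h.left)

lemma surjective_of_section {X Y : Sp S} (f : X ⟶ Y) (e : Y ⟶ X) (h : e ≫ f = 𝟙 Y) :
    IsSurjectiveMor f := fun y => ⟨Points.map e y, by rw [← Points.map_comp, h, Points.map_id]⟩

lemma surjective_comp {X Y Z : Sp S} {f : X ⟶ Y} {g : Y ⟶ Z} (hf : IsSurjectiveMor f)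
    (hg : IsSurjectiveMor g) : IsSurjectiveMor (f ≫ g) := fun z => by
  obtain ⟨y, rfl⟩ := hg z
  obtain ⟨x, rfl⟩ := hf y
  exact ⟨x, Points.map_comp _ _ _⟩

/-- The composition of a groupoid over a field. -/
theorem comp_flat_univOpen {B : Sp S} (G : GroupoidSp B) (hR : IsAlgSpace G.R) {k : Type u} [Field k]
    (σ : Spec (CommRingCat.of k) ⟶ S) (eU : G.U ≅ (yon S).obj (Over.mk σ)) :
    LocP @Flat G.c ∧ IsUnivOpenMor G.c := by
  have hU : IsAlgSpace G.U := (IsAlgSpace.yon_obj (Over.mk σ)).of_iso eU.symm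
  obtain ⟨hf, ho⟩ := flat_univOpen_to_field hR hU σ eU G.s
  have sq := (isPullback_c_snd (G := G)).flip
  exact ⟨locP_of_isPullback hR hU hR sq hf, univSp_of_isPullback sq ho⟩

/-- The restriction of a groupoid along a field extension. -/
theorem restrict_fieldExt {B : Sp S} {G G' : GroupoidSp B} (hR : IsAlgSpace G.R)
    (hR' : IsAlgSpace G'.R) {k k' : Type u} [Field k] [Field k']
    (σ : Spec (CommRingCat.of k) ⟶ S) (σ' : Spec (CommRingCat.of k') ⟶ S)
    (eU : G.U ≅ (yon S).obj (Over.mk σ)) (eU' : G'.U ≅ (yon S).obj (Over.mk σ'))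
    (φ : GroupoidSp.Hom G' G) (hφ : φ.IsRestriction) (h : Over.mk σ' ⟶ Over.mk σ) [IsAffineHom h.left]
    (hfU : φ.fU = eU'.hom ≫ (yon S).map h ≫ eU.inv) :
    (∀ f ∈ [G.s, G.t], IsSurjectiveMor f ∧ LocP @Flat f ∧ IsUnivOpenMor f) ∧
      (∀ f ∈ [G'.s, G'.t], IsSurjectiveMor f ∧ LocP @Flat f ∧ IsUnivOpenMor f) ∧
      (IsSurjectiveMor φ.fU ∧ LocP @Flat φ.fU ∧ IsUnivOpenMor φ.fU) ∧
      (IsSurjectiveMor φ.fR ∧ LocP @Flat φ.fR ∧ IsUnivOpenMor φ.fR ∧ IsAffineMor φ.fR) := by
  have hU : IsAlgSpace G.U := (IsAlgSpace.yon_obj (Over.mk σ)).of_iso eU.symm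
  have hU' : IsAlgSpace G'.U := (IsAlgSpace.yon_obj (Over.mk σ')).of_iso eU'.symm
  have hsU : IsSurjectiveMor φ.fU := fun x => by
    have : Subsingleton (Points G.U) := by
      have hb := (bijective_map_iso eU.hom).1
      have : Subsingleton ↥(Over.mk σ).left := inferInstanceAs (Subsingleton (PrimeSpectrum k))
      have : Subsingleton (Points ((yon S).obj (Over.mk σ))) :=
        (Points.schemeEquiv (Over.mk σ)).symm.injective.subsingleton
      exact hb.subsingleton
    exact ⟨Points.map eU'.inv (Points.ofScheme _ (IsLocalRing.closedPoint k')), Subsingleton.elim _ _⟩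
  obtain ⟨hfU', hoU⟩ := flat_univOpen_to_field hU' hU σ eU φ.fU
  have haU : RepWith @IsAffineHom φ.fU := by
    rw [hfU]
    exact (repWith_respectsIso_left _).2 ((repWith_respectsIso_right _).2 ((repWith_yon_map_iff _ _).2 ‹_›))
  refine ⟨?_, ?_, ⟨hsU, hfU', hoU⟩, ?_⟩
  · simp only [List.mem_cons, List.not_mem_nil, or_false, forall_eq_or_imp, forall_eq]
    exact ⟨⟨surjective_of_section _ _ G.e_s, flat_univOpen_to_field hR hU σ eU _⟩,
      ⟨surjective_of_section _ _ G.e_t, flat_univOpen_to_field hR hU σ eU _⟩⟩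
  · simp only [List.mem_cons, List.not_mem_nil, or_false, forall_eq_or_imp, forall_eq]
    exact ⟨⟨surjective_of_section _ _ G'.e_s, flat_univOpen_to_field hR' hU' σ' eU' _⟩,
      ⟨surjective_of_section _ _ G'.e_t, flat_univOpen_to_field hR' hU' σ' eU' _⟩⟩
  · have sqt := (IsPullback.of_hasPullback φ.fU G.t)
    have hA := isAlgSpace_pullback hU hU' hR sqt
    have sqa := (restrict_sq_s hφ).flip
    rw [← pullback.lift_snd G'.t φ.fR φ.comm_t.symm]
    refine ⟨surjective_comp (surjective_of_isPullback sqa hsU) (surjective_of_isPullback sqt hsU),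
      locP_comp hR' hA hR (locP_of_isPullback hU' hU hA sqa hfU')
        (locP_of_isPullback hU' hU hR sqt hfU'),
      isUnivOpenMor_comp hA hR (univSp_of_isPullback sqa hoU) (univSp_of_isPullback sqt hoU), ?_⟩
    rw [isAffineMor_iff_repWith]
    exact repWith_comp (repWith_of_isPullback sqa haU) (repWith_of_isPullback sqt haU)

/-- Multiplication of a group over a field. -/
theorem mul_flat_univOpen {k : Type u} [Field k]
    (G : Over ((yon (Spec (CommRingCat.of k))).obj (Over.mk (𝟙 _)))) [GrpObj G]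
    (hG : IsAlgSpace G.left) : LocP @Flat (μ[G]).left ∧ IsUnivOpenMor (μ[G]).left := by
  let e : G ⊗ G ≅ G ⊗ G :=
    { hom := lift (μ[G]) (snd G G)
      inv := lift ((lift (fst G G) (snd G G ≫ ι[G])) ≫ μ[G]) (snd G G)
      hom_inv_id := by
        apply hom_ext
        · rw [Category.assoc, lift_fst, ← Category.assoc, comp_lift, lift_fst, lift_snd_assoc,
            Category.id_comp]
          change (μ[G] : G ⊗ G ⟶ G) * (snd G G)⁻¹ = fst G G
          rw [show μ[G] = fst G G * snd G G from by rw [Hom.mul_def, lift_fst_snd, Category.id_comp]]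
          exact mul_inv_cancel_right _ _
        · rw [Category.assoc, lift_snd, lift_snd, Category.id_comp]
      inv_hom_id := by
        apply hom_ext
        · rw [Category.assoc, lift_fst, Category.id_comp]
          change ((fst G G * (snd G G)⁻¹) * snd G G : G ⊗ G ⟶ G) = fst G G
          exact inv_mul_cancel_right _ _
        · rw [Category.assoc, lift_snd, lift_snd, Category.id_comp] }
  have hU := IsAlgSpace.yon_obj (S := Spec (CommRingCat.of k)) (Over.mk (𝟙 _))
  have hGG : IsAlgSpace (G ⊗ G).left :=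
    isAlgSpace_pullback hU hG hG (IsPullback.of_hasPullback G.hom G.hom)
  obtain ⟨hf, ho⟩ := flat_univOpen_to_field hG hU (𝟙 _) (Iso.refl _) G.hom
  have sq₀ : IsPullback (snd G G).left (fst G G).left G.hom G.hom :=
    (IsPullback.of_hasPullback G.hom G.hom).flip
  have hμ : e.hom.left ≫ (fst G G).left = (μ[G]).left := by
    rw [← Over.comp_left]
    exact congrArg CommaMorphism.left (lift_fst _ _)
  have hiso : IsIso e.hom.left := ((Over.forget _).mapIso e).isIso_hom
  have sq : IsPullback (e.hom.left ≫ (snd G G).left) (μ[G]).left G.hom G.hom :=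
    sq₀.of_iso (asIso e.hom.left).symm (Iso.refl _) (Iso.refl _) (Iso.refl _) (by simp) (by simp [← hμ])
      (by simp) (by simp)
  exact ⟨locP_of_isPullback hG hU hG sq hf, univSp_of_isPullback sq ho⟩

end Groth.Agent.GpdRestrict14
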