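import Groth.Agent.Lib.AlgSpace.FlatCover
import Groth.Agent.Lib.AlgSpace.GroupoidCalc
import Groth.Prelude.Def_AlgSpGpd

/-!
# Quotients by pre-equivalence relations and their restrictions
-/

universe u

set_option backward.isDefEq.respectTransparency.types false
set_option linter.unusedVariables false

open CategoryTheory CategoryTheory.Limits AlgebraicGeometry Opposite

namespace Groth.Agent.GpdRestrict14

open AlgSp Groth.Agent.AlgSpace Groth.Agent.AlgSpDecent

variable {S : Scheme.{u}}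

/-- Morphisms out of a scheme agreeing on a covering sieve agree. -/
lemma hom_ext_of_sieve {T : Over S} {F : Sp S} (x y : (yon S).obj T ⟶ F) {K : Sieve T}
    (hK : K ∈ AlgSp.J S T)
    (h : ∀ ⦃T' : Over S⦄ (f : T' ⟶ T), K f → (yon S).map f ≫ x = (yon S).map f ≫ y) : x = y := by
  apply (sect (T := T) (F := F)).injective
  refine (((isSheaf_iff_isSheaf_of_type _ _).1 F.property K hK).isSeparatedFor).ext fun T' f hf => ?_
  rw [GrothendieckTopology.uliftYonedaEquiv_naturality, GrothendieckTopology.uliftYonedaEquiv_naturality,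
    h f hf]

/-- Liftings exist on a covering sieve along a locally surjective morphism. -/
lemma exists_sieve_lift {F G : Sp S} (a : F ⟶ G) [Sheaf.IsLocallySurjective a] {T : Over S}
    (x : (yon S).obj T ⟶ G) :
    ∃ K ∈ AlgSp.J S T, ∀ ⦃T' : Over S⦄ (f : T' ⟶ T), K f →
      ∃ b : (yon S).obj T' ⟶ F, b ≫ a = (yon S).map f ≫ x := by
  refine ⟨_, Presheaf.imageSieve_mem (AlgSp.J S) a.hom (sect x), fun T' f hf => ?_⟩
  obtain ⟨t, ht⟩ := hf
  refine ⟨(sect (T := T') (F := F)).symm t, ?_⟩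
  apply (sect (T := T') (F := G)).injective
  rw [GrothendieckTopology.uliftYonedaEquiv_comp, Equiv.apply_symm_apply,
    ← GrothendieckTopology.uliftYonedaEquiv_naturality]
  exact ht

variable {R U : Sp S} {s t : R ⟶ U}

/-- The setoid of a pre-equivalence relation. -/
def preSetoid (h : IsPreEqvRelSp s t) (T : Over S) : Setoid ((yon S).obj T ⟶ U) := ⟨_, h T⟩

/-- The presheaf quotient of a pre-equivalence relation. -/
def preQuot (h : IsPreEqvRelSp s t) : (Over S)ᵒᵖ ⥤ Type (u + 1) where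
  obj T := Quotient (preSetoid h T.unop)
  map {T T'} f := TypeCat.ofHom (Quotient.map (sa := preSetoid h T.unop)
    (sb := preSetoid h T'.unop) (fun a => (yon S).map f.unop ≫ a) (by
      rintro a b ⟨r, rfl, rfl⟩
      exact ⟨(yon S).map f.unop ≫ r, Category.assoc _ _ _, Category.assoc _ _ _⟩))
  map_id T := by
    ext x
    induction x using Quotient.ind with
    | _ a => simp
  map_comp f g := by
    ext x
    induction x using Quotient.ind with
    | _ a => simp

/-- The map to the presheaf quotient. -/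
def preQuotπ (h : IsPreEqvRelSp s t) : U.obj ⟶ preQuot h where
  app T := TypeCat.ofHom fun x => Quotient.mk (preSetoid h T.unop) ((sect (T := T.unop) (F := U)).symm x)
  naturality T T' f := by
    ext x
    change Quotient.mk (preSetoid h T'.unop) _ = Quotient.mk (preSetoid h T'.unop) _
    exact congrArg _ (GrothendieckTopology.uliftYonedaEquiv_symm_naturality_left _ _ _ _).symm

/-- Two points with equal images in the quotient are locally related. -/
theorem exists_sieve_related (h : IsPreEqvRelSp s t) {T : Over S} (a b : (yon S).obj T ⟶ U)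
    (e : a ≫ quotSpπ s t = b ≫ quotSpπ s t) :
    ∃ K ∈ AlgSp.J S T, ∀ ⦃T' : Over S⦄ (f : T' ⟶ T), K f →
      ∃ r : (yon S).obj T' ⟶ R, r ≫ t = (yon S).map f ≫ a ∧ r ≫ s = (yon S).map f ≫ b := by
  let Q := preQuot h
  let Q' : Sp S := (presheafToSheaf (AlgSp.J S) (Type (u + 1))).obj Q
  let q : U ⟶ Q' := ObjectProperty.homMk (preQuotπ h ≫ toSheafify (AlgSp.J S) Q)
  have app : ∀ {T : Over S} (a : (yon S).obj T ⟶ U), sect (a ≫ q) =
      (toSheafify (AlgSp.J S) Q).app (op T) (Quotient.mk (preSetoid h T) a) := fun {T} a => by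
    rw [GrothendieckTopology.uliftYonedaEquiv_comp]
    change (toSheafify (AlgSp.J S) Q).app (op T)
      (Quotient.mk (preSetoid h T) ((sect (T := T) (F := U)).symm (sect a))) = _
    rw [Equiv.symm_apply_apply]
  have hq : s ≫ q = t ≫ q := hom_ext_yon fun T r => by
    apply (sect (T := T) (F := Q')).injective
    rw [← Category.assoc, ← Category.assoc, app, app]
    exact congrArg _ (Quotient.sound ((h T).symm ⟨r, rfl, rfl⟩))
  obtain ⟨φ, hφ⟩ := Cofork.IsColimit.desc' (quotSpIsCoequalizer s t) q hq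
  have e' : a ≫ q = b ≫ q := by
    rw [← hφ, Cofork.π_ofπ, ← Category.assoc, e, Category.assoc]
  have e'' := congrArg (sect (T := T) (F := Q')) e'
  rw [app, app] at e''
  exact ⟨_, Presheaf.equalizerSieve_mem (AlgSp.J S) (toSheafify (AlgSp.J S) Q) _ _ e'',
    fun T' f hf => Quotient.exact hf⟩

/-- The quotient map is locally surjective. -/
lemma isLocallySurjective_quotSpπ : Sheaf.IsLocallySurjective (quotSpπ s t) :=
  (Sheaf.isLocallySurjective_iff_epi _).2
    (show Epi (quotSpπ s t) from inferInstanceAs (Epi (coequalizer.π s t)))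

/-- The quotient of a restricted relation embeds. -/
theorem mono_and_isIso_of_lifts {R' U' : Sp S} {s' t' : R' ⟶ U'} (h : IsPreEqvRelSp s t) (g : U' ⟶ U)
    (hlift : ∀ ⦃T : Over S⦄ (a b : (yon S).obj T ⟶ U') (r : (yon S).obj T ⟶ R),
      r ≫ t = a ≫ g → r ≫ s = b ≫ g → ∃ r' : (yon S).obj T ⟶ R', r' ≫ t' = a ∧ r' ≫ s' = b)
    (ψ : quotSp s' t' ⟶ quotSp s t) (hψ : quotSpπ s' t' ≫ ψ = g ≫ quotSpπ s t) :
    Mono ψ ∧ (Epi ψ → IsIso ψ) := by
  have hmono : Mono ψ := by
    refine mono_of_yon _ fun T x y e => ?_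
    have := isLocallySurjective_quotSpπ (s := s') (t := t')
    obtain ⟨K₁, hK₁, hl₁⟩ := exists_sieve_lift (quotSpπ s' t') x
    obtain ⟨K₂, hK₂, hl₂⟩ := exists_sieve_lift (quotSpπ s' t') y
    refine hom_ext_of_sieve x y ((AlgSp.J S).intersection_covering hK₁ hK₂) fun T' f hf => ?_
    obtain ⟨a, ha⟩ := hl₁ f hf.1
    obtain ⟨b, hb⟩ := hl₂ f hf.2
    have e' : (a ≫ g) ≫ quotSpπ s t = (b ≫ g) ≫ quotSpπ s t := by
      rw [Category.assoc, Category.assoc, ← hψ, reassoc_of% ha, reassoc_of% hb, e]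
    obtain ⟨K, hK, hrel⟩ := exists_sieve_related h _ _ e'
    rw [← ha, ← hb]
    refine hom_ext_of_sieve _ _ hK fun T'' k hk => ?_
    obtain ⟨r, hr₁, hr₂⟩ := hrel k hk
    obtain ⟨r', h₁, h₂⟩ := hlift ((yon S).map k ≫ a) ((yon S).map k ≫ b) r
      (by rw [hr₁, Category.assoc]) (by rw [hr₂, Category.assoc])
    rw [← Category.assoc, ← Category.assoc, ← h₁, ← h₂, Category.assoc, Category.assoc,
      ← quotSp_condition]
  exact ⟨hmono, fun _ => isIso_of_mono_of_epi ψ⟩

/-- The relation of a groupoid is a pre-equivalence relation. -/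
theorem isPreEqvRelSp_groupoid {B : Sp S} (G : GroupoidSp B) : IsPreEqvRelSp G.s G.t := fun T =>
  { refl := fun a => ⟨a ≫ G.e, by rw [Category.assoc, G.e_t, Category.comp_id],
      by rw [Category.assoc, G.e_s, Category.comp_id]⟩
    symm := fun {a b} ⟨r, hr₁, hr₂⟩ => ⟨r ≫ G.i, by rw [Category.assoc, G.i_t, hr₂],
      by rw [Category.assoc, G.i_s, hr₁]⟩
    trans := fun {a b c} ⟨r, hr₁, hr₂⟩ ⟨r', hr₁', hr₂'⟩ =>
      ⟨cmp G r r' (hr₂.trans hr₁'.symm), by rw [cmp_t, hr₁], by rw [cmp_s, hr₂']⟩ }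

theorem restrict_sp {R' U' : Sp S} {s' t' : R' ⟶ U'} (h : IsPreEqvRelSp s t) (g : U' ⟶ U)
    (r : R' ⟶ R) (hsq : IsPullback (prod.lift t' s') r (prod.map g g) (prod.lift t s))
    (ψ : quotSp s' t' ⟶ quotSp s t) (hψ : quotSpπ s' t' ≫ ψ = g ≫ quotSpπ s t) :
    Mono ψ ∧ (Epi g → IsIso ψ) := by
  suffices hl : ∀ ⦃T : Over S⦄ (a b : (yon S).obj T ⟶ U') (r₀ : (yon S).obj T ⟶ R),
      r₀ ≫ t = a ≫ g → r₀ ≫ s = b ≫ g → ∃ r' : (yon S).obj T ⟶ R', r' ≫ t' = a ∧ r' ≫ s' = b by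
    obtain ⟨hm, hi⟩ := mono_and_isIso_of_lifts h g hl ψ hψ
    refine ⟨hm, fun hg => hi ?_⟩
    have : Epi (quotSpπ s t) := inferInstanceAs (Epi (coequalizer.π s t))
    have : Epi (quotSpπ s' t' ≫ ψ) := hψ ▸ epi_comp g (quotSpπ s t)
    exact epi_of_epi (quotSpπ s' t') ψ
  intro T a b r₀ h₁ h₂
  · refine ⟨hsq.lift (prod.lift a b) r₀ (Limits.prod.hom_ext ?_ ?_), ?_, ?_⟩
    · rw [Category.assoc, Category.assoc, prod.map_fst, prod.lift_fst, prod.lift_fst_assoc, h₁]
    · rw [Category.assoc, Category.assoc, prod.map_snd, prod.lift_snd, prod.lift_snd_assoc, h₂]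
    · simpa [prod.lift_fst] using congrArg (· ≫ Limits.prod.fst) (hsq.lift_fst (prod.lift a b) r₀ _)
    · simpa [prod.lift_snd] using congrArg (· ≫ Limits.prod.snd) (hsq.lift_fst (prod.lift a b) r₀ _)

theorem restrict_gpd {B : Sp S} {G G' : GroupoidSp B} (φ : GroupoidSp.Hom G' G) (hφ : φ.IsRestriction)
    (ψ : G'.quot ⟶ G.quot) (hψ : G'.quotπ ≫ ψ = φ.fU ≫ G.quotπ) :
    Mono ψ ∧ (Epi (pullback.snd φ.fU G.t ≫ G.s) → IsIso ψ) := by
  suffices hl : ∀ ⦃T : Over S⦄ (a b : (yon S).obj T ⟶ G'.U) (r₀ : (yon S).obj T ⟶ G.R),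
      r₀ ≫ G.t = a ≫ φ.fU → r₀ ≫ G.s = b ≫ φ.fU →
        ∃ r' : (yon S).obj T ⟶ G'.R, r' ≫ G'.t = a ∧ r' ≫ G'.s = b by
    obtain ⟨hm, hi⟩ :=
      mono_and_isIso_of_lifts (s' := G'.s) (t' := G'.t) (isPreEqvRelSp_groupoid G) φ.fU hl ψ hψ
    refine ⟨hm, fun hg => hi ?_⟩
    have : Epi G.quotπ := inferInstanceAs (Epi (coequalizer.π G.s G.t))
    have hE : Epi ((pullback.fst φ.fU G.t ≫ G'.quotπ) ≫ ψ) := by
      have : (pullback.fst φ.fU G.t ≫ G'.quotπ) ≫ ψ = (pullback.snd φ.fU G.t ≫ G.s) ≫ G.quotπ := by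
        rw [Category.assoc, hψ, pullback.condition_assoc, Category.assoc]
        exact congrArg (_ ≫ ·) (quotSp_condition G.s G.t).symm
      rw [this]
      exact @epi_comp _ _ _ _ _ (pullback.snd φ.fU G.t ≫ G.s) hg G.quotπ ‹_›
    exact @epi_of_epi _ _ _ _ _ (pullback.fst φ.fU G.t ≫ G'.quotπ) ψ hE
  intro T a b r₀ h₁ h₂
  · have hab : a ≫ G'.pU = b ≫ G'.pU := by
      rw [← φ.fU_over, ← reassoc_of% h₁, ← reassoc_of% h₂, G.t_over, G.s_over]
    refine ⟨hφ.lift r₀ (pullback.lift a b hab) (pullback.hom_ext ?_ ?_), ?_, ?_⟩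
    · simp only [GroupoidSp.Hom.prodMap, Category.assoc, GroupoidSp.j_fst, pullback.lift_fst,
        pullback.lift_fst_assoc, h₁]
    · simp only [GroupoidSp.Hom.prodMap, Category.assoc, GroupoidSp.j_snd, pullback.lift_snd,
        pullback.lift_snd_assoc, h₂]
    · refine ((congrArg (_ ≫ ·) G'.j_fst).symm.trans ((Category.assoc _ _ _).symm.trans ?_))
      rw [IsPullback.lift_snd, pullback.lift_fst]
    · refine ((congrArg (_ ≫ ·) G'.j_snd).symm.trans ((Category.assoc _ _ _).symm.trans ?_))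
      rw [IsPullback.lift_snd, pullback.lift_snd]

end Groth.Agent.GpdRestrict14
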